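import Groth.Agent.FormalCohLib.ProjAmple
import Groth.Agent.AmpleDevLib.Pull
import Groth.Agent.CycP1Lib.Graph
import Groth.Agent.ProjDegLib.Criterion
import Groth.Agent.TwistLib.PtApp
import Mathlib.RingTheory.FiniteType

/-!
# An affine variety as the complement of a hyperplane section in a projective variety
-/

set_option autoImplicit false
set_option linter.style.haveILetI false
set_option maxHeartbeats 1000000
universe u

open CategoryTheory CategoryTheory.Limits AlgebraicGeometry TopologicalSpace Opposite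
open AmpleLib
open TwistLib (genSet)

noncomputable section

namespace AffBlowLib

variable {k : Type u} [Field k]

/-- Evaluation of degree-zero fractions in the chart at zero. -/
def chartEval {R : Type u} [CommRing R] (φ₀ : k →+* R) {n : ℕ} (v : Fin (n + 1) → R) (hv : v 0 = 1) :
    HomogeneousLocalization.Away (CohB1.polyGrading n k) (MvPolynomial.X 0) →+* R :=
  (IsLocalization.Away.lift (S := Localization.Away (MvPolynomial.X (0 : Fin (n + 1)) : MvPolynomial (Fin (n + 1)) k))
    (MvPolynomial.X (0 : Fin (n + 1))) (g := MvPolynomial.eval₂Hom φ₀ v) (by simp [hv])).comp (algebraMap _ _)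

theorem chartEval_fromZero {R : Type u} [CommRing R] (φ₀ : k →+* R) {n : ℕ} (v : Fin (n + 1) → R) (hv : v 0 = 1) (r : k) :
    chartEval φ₀ v hv (HomogeneousLocalization.fromZeroRingHom _ _ (algebraMap k (CohB1.polyGrading n k 0) r)) = φ₀ r := by
  simp only [chartEval, RingHom.comp_apply, HomogeneousLocalization.algebraMap_apply]
  have : HomogeneousLocalization.val (HomogeneousLocalization.fromZeroRingHom
      (CohB1.polyGrading n k) (Submonoid.powers (MvPolynomial.X (0 : Fin (n + 1))))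
      (algebraMap k (CohB1.polyGrading n k 0) r)) =
      algebraMap (MvPolynomial (Fin (n + 1)) k) _ (MvPolynomial.C r) := by
    change Localization.mk _ _ = _
    rw [← Localization.mk_one_eq_algebraMap]
    rfl
  rw [this, IsLocalization.Away.lift_eq]
  simp

theorem exists_chartEval_eq {R : Type u} [CommRing R] (φ₀ : k →+* R) {n : ℕ} (v : Fin (n + 1) → R) (hv : v 0 = 1)
    (j : Fin (n + 1)) : ∃ z, chartEval φ₀ v hv z = v j := by
  have h0 : (MvPolynomial.X 0 : MvPolynomial (Fin (n + 1)) k) ∈ CohB1.polyGrading n k 1 :=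
    MvPolynomial.isHomogeneous_X k 0
  have hmem : (MvPolynomial.X j : MvPolynomial (Fin (n + 1)) k) ∈ CohB1.polyGrading n k (1 • 1) := by
    rw [one_smul]; exact MvPolynomial.isHomogeneous_X k j
  let z := HomogeneousLocalization.Away.mk (CohB1.polyGrading n k) h0 1 (MvPolynomial.X j) hmem
  refine ⟨z, ?_⟩
  have h : z.val * algebraMap _ (Localization.Away (MvPolynomial.X (0 : Fin (n + 1)) : MvPolynomial (Fin (n + 1)) k))
      ((MvPolynomial.X (0 : Fin (n + 1)) : MvPolynomial (Fin (n + 1)) k) ^ 1) =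
      algebraMap _ (Localization.Away (MvPolynomial.X (0 : Fin (n + 1)) : MvPolynomial (Fin (n + 1)) k))
        (MvPolynomial.X j : MvPolynomial (Fin (n + 1)) k) := by
    rw [HomogeneousLocalization.Away.val_mk, Localization.mk_eq_mk']
    exact IsLocalization.mk'_spec _ _ _
  simp only [chartEval, RingHom.comp_apply, HomogeneousLocalization.algebraMap_apply]
  have hu : IsUnit (MvPolynomial.eval₂Hom φ₀ v (MvPolynomial.X (0 : Fin (n + 1)))) := by simp [hv]
  show IsLocalization.Away.lift (S := Localization.Away (MvPolynomial.X (0 : Fin (n + 1)) : MvPolynomial (Fin (n + 1)) k))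
    (MvPolynomial.X (0 : Fin (n + 1))) hu z.val = _
  have h2 := congrArg (IsLocalization.Away.lift
    (S := Localization.Away (MvPolynomial.X (0 : Fin (n + 1)) : MvPolynomial (Fin (n + 1)) k)) (MvPolynomial.X (0 : Fin (n + 1))) hu) h
  rw [map_mul, IsLocalization.Away.lift_eq, IsLocalization.Away.lift_eq] at h2
  simpa [hv] using h2

theorem chartEval_surjective {R : Type u} [CommRing R] [Algebra k R] {n : ℕ} (a : Fin n → R)
    (ha : Function.Surjective (MvPolynomial.aeval (R := k) a)) :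
    Function.Surjective (chartEval (algebraMap k R) (Fin.cons 1 a : Fin (n + 1) → R) (Fin.cons_zero _ _)) := by
  intro r
  obtain ⟨p, rfl⟩ := ha r
  induction p using MvPolynomial.induction_on with
  | C c => exact ⟨_, (chartEval_fromZero _ _ _ c).trans (MvPolynomial.aeval_C a c).symm⟩
  | add p q hp hq =>
    obtain ⟨z, hz⟩ := hp
    obtain ⟨z', hz'⟩ := hq
    exact ⟨z + z', by rw [map_add, map_add, hz, hz']⟩
  | mul_X p i hp =>
    obtain ⟨z, hz⟩ := hp
    obtain ⟨z', hz'⟩ := exists_chartEval_eq (algebraMap k R) (Fin.cons 1 a : Fin (n + 1) → R) (Fin.cons_zero _ _) i.succ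
    exact ⟨z * z', by rw [map_mul, map_mul, hz, hz', MvPolynomial.aeval_X, Fin.cons_succ]⟩

theorem iSup_basicOpen_X (n : ℕ) :
    ⨆ i, Proj.basicOpen (CohB1.polyGrading n k) (MvPolynomial.X i) = ⊤ := by
  refine TwistLib.iSup_basicOpen_eq_top_of_span (CohB1.polyGrading n k) MvPolynomial.X fun x hx => ?_
  rw [← Set.image_univ, MvPolynomial.mem_ideal_span_X_image]
  intro m hm
  by_contra! hcon
  have hm0 : m = 0 := Finsupp.ext fun i => hcon i trivial
  have hx0 : MvPolynomial.homogeneousComponent 0 x = 0 :=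
    (MvPolynomial.decomposition.decompose'_apply x 0).symm.trans ((HomogeneousIdeal.mem_irrelevant_iff _ x).mp hx)
  rw [MvPolynomial.homogeneousComponent_zero, MvPolynomial.C_eq_zero] at hx0
  exact MvPolynomial.mem_support_iff.mp hm (hm0 ▸ hx0)

theorem genSet_coord (n : ℕ) (hL : PicF.IsInvertible (Twist.twistProjSpace n k 1)) (i : Fin (n + 1)) :
    genSet hL (Twist.globalOf (CohB1.polyGrading n k) (i := 1) ⟨MvPolynomial.X i, MvPolynomial.isHomogeneous_X k i⟩) =
      Proj.basicOpen (CohB1.polyGrading n k) (MvPolynomial.X i) := by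
  ext x
  obtain ⟨b, hb⟩ := Opens.mem_iSup.mp (show x ∈ ⨆ m, Proj.basicOpen (CohB1.polyGrading n k) (MvPolynomial.X m) by
    rw [iSup_basicOpen_X]; trivial)
  exact TwistLib.genAt_globalOf (CohB1.polyGrading n k) ⟨MvPolynomial.X i, MvPolynomial.isHomogeneous_X k i⟩
    (U := Proj.basicOpen (CohB1.polyGrading n k) (MvPolynomial.X b))
    ⟨1, 0, MvPolynomial.X b, 1, MvPolynomial.isHomogeneous_X k b, SetLike.GradedOne.one_mem, by simp, fun z => z.2,
      fun z h => z.1.isPrime.ne_top ((Ideal.eq_top_iff_one _).mpr h)⟩ hb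

/-- An affine variety is the complement of the zeros of a section of an ample module on a projective variety. -/
theorem exists_hyperplane {U : Scheme.{u}} [IsIntegral U] [IsAffine U] (p : U ⟶ Spec (CommRingCat.of k))
    [LocallyOfFiniteType p] :
    ∃ (P : Scheme.{u}) (g : P ⟶ Spec (CommRingCat.of k)) (j : U ⟶ P) (A : P.Modules) (hA : PicF.IsInvertible A)
      (σ : Γ(A, ⊤)) (_ : IsIntegral P) (_ : IsProper g) (_ : IsOpenImmersion j),
      j ≫ g = p ∧ CohB1.IsAmple A ∧ genSet hA σ = j.opensRange := by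
  let φ₀ : k →+* Γ(U, ⊤) := p.appTop.hom.comp (Scheme.ΓSpecIso (CommRingCat.of k)).inv.hom
  letI : Algebra k Γ(U, ⊤) := φ₀.toAlgebra
  haveI : Algebra.FiniteType k Γ(U, ⊤) := by
    have h1 : p.appTop.hom.FiniteType := HasRingHomProperty.appTop @LocallyOfFiniteType p inferInstance
    exact h1.comp (RingHom.FiniteType.of_surjective _
      (ConcreteCategory.bijective_of_isIso (Scheme.ΓSpecIso (CommRingCat.of k)).inv).2)
  obtain ⟨n, f, hf⟩ := Algebra.FiniteType.iff_quotient_mvPolynomial''.mp ‹Algebra.FiniteType k Γ(U, ⊤)›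
  let a : Fin n → Γ(U, ⊤) := fun i => f (MvPolynomial.X i)
  have hfa : MvPolynomial.aeval a = f := (MvPolynomial.aeval_unique f).symm
  let φ := chartEval (algebraMap k Γ(U, ⊤)) (Fin.cons 1 a : Fin (n + 1) → Γ(U, ⊤)) (Fin.cons_zero _ _)
  have hφ : Function.Surjective φ := chartEval_surjective a (by rw [hfa]; exact hf)
  let 𝒜 := CohB1.polyGrading n k
  let X₀ : MvPolynomial (Fin (n + 1)) k := MvPolynomial.X 0
  have hX₀ : X₀ ∈ 𝒜 1 := MvPolynomial.isHomogeneous_X k 0
  let D : (CohB1.ProjSpace n k).Opens := Proj.basicOpen 𝒜 X₀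
  haveI : IsClosedImmersion (Spec.map (CommRingCat.ofHom φ)) := IsClosedImmersion.spec_of_surjective _ hφ
  let c' : U ⟶ (D : Scheme.{u}) := U.isoSpec.hom ≫ Spec.map (CommRingCat.ofHom φ) ≫
    (Proj.basicOpenIsoSpec 𝒜 X₀ hX₀ one_pos).inv
  haveI : IsClosedImmersion c' := inferInstance
  let c : U ⟶ CohB1.ProjSpace n k := c' ≫ D.ι
  have hc : c ≫ CohB1.ProjSpace.toSpec n k = p := by
    show (((U.isoSpec.hom ≫ Spec.map (CommRingCat.ofHom φ) ≫ (Proj.basicOpenIsoSpec 𝒜 X₀ hX₀ one_pos).inv) ≫ D.ι) ≫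
      Proj.toSpecZero 𝒜 ≫ Spec.map (CommRingCat.ofHom (algebraMap k (𝒜 0)))) = p
    simp only [Category.assoc]
    rw [show (Proj.basicOpenIsoSpec 𝒜 X₀ hX₀ one_pos).inv ≫ D.ι ≫ Proj.toSpecZero 𝒜 ≫
        Spec.map (CommRingCat.ofHom (algebraMap k (𝒜 0))) =
      (Proj.awayι 𝒜 X₀ hX₀ one_pos ≫ Proj.toSpecZero 𝒜) ≫ Spec.map (CommRingCat.ofHom (algebraMap k (𝒜 0))) from
        by simp only [Proj.awayι, Category.assoc]; rfl,
      Proj.awayι_toSpecZero, ← Spec.map_comp, ← Spec.map_comp]
    have e : (CommRingCat.ofHom (algebraMap k (𝒜 0)) ≫ CommRingCat.ofHom (HomogeneousLocalization.fromZeroRingHom 𝒜 _)) ≫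
        CommRingCat.ofHom φ = (Scheme.ΓSpecIso (CommRingCat.of k)).inv ≫ p.appTop := by
      ext r : 2
      exact chartEval_fromZero (algebraMap k Γ(U, ⊤)) (Fin.cons 1 a : Fin (n + 1) → Γ(U, ⊤)) (Fin.cons_zero _ _) r
    rw [e, Spec.map_comp, Scheme.isoSpec_hom_naturality_assoc]
    rw [← Category.comp_id p, Category.assoc]
    congr 1
    rw [Category.id_comp, Scheme.isoSpec_Spec_hom, ← Spec.map_comp, Iso.inv_hom_id, Spec.map_id]
  haveI : QuasiCompact (c ≫ CohB1.ProjSpace.toSpec n k) := by rw [hc]; infer_instance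
  haveI : IsProper (CohB1.ProjSpace.toSpec n k) := ProjDegLib.toSpec_isProper k n
  haveI : QuasiCompact c := QuasiCompact.of_comp c (CohB1.ProjSpace.toSpec n k)
  haveI : IsIntegral c.image := CycP1Lib.isIntegral_image c
  let O : c.image.Opens := c.imageι ⁻¹ᵁ D
  have hrange : Set.range c.toImage ⊆ Set.range O.ι := by
    rw [Scheme.Opens.range_ι]
    rintro _ ⟨x, rfl⟩
    show c.imageι (c.toImage x) ∈ D
    rw [← Scheme.Hom.comp_apply, Scheme.Hom.toImage_imageι]
    exact (c' x).2
  let jO : U ⟶ (O : Scheme.{u}) := IsOpenImmersion.lift O.ι c.toImage hrange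
  have hjO : jO ≫ O.ι = c.toImage := IsOpenImmersion.lift_fac _ _ _
  have hfac : jO ≫ (c.imageι ∣_ D) = c' := by
    rw [← cancel_mono D.ι, Category.assoc, morphismRestrict_ι, ← Category.assoc, hjO, Scheme.Hom.toImage_imageι]
  haveI : IsClosedImmersion (jO ≫ (c.imageι ∣_ D)) := by rw [hfac]; infer_instance
  haveI : IsClosedImmersion jO := IsClosedImmersion.of_comp jO (c.imageι ∣_ D)
  haveI : Surjective jO := ⟨Set.range_eq_univ.1 (Set.eq_univ_of_forall fun z => by_contra fun hz => by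
    have hopen : IsOpen (O.ι '' (Set.range jO)ᶜ) := O.ι.isOpenEmbedding.isOpenMap _ jO.isClosedEmbedding.isClosed_range.isOpen_compl
    obtain ⟨_, ⟨w, hw, rfl⟩, x, hx⟩ := c.toImage.denseRange.inter_open_nonempty _ hopen ⟨_, z, hz, rfl⟩
    rw [← hjO, Scheme.Hom.comp_apply] at hx
    exact hw ⟨x, O.ι.isOpenEmbedding.injective hx⟩)⟩
  haveI : IsReduced (O : Scheme.{u}) := isReduced_of_isOpenImmersion O.ι
  haveI : IsIso jO := isIso_of_isClosedImmersion_of_surjective jO
  haveI : IsOpenImmersion c.toImage := by rw [← hjO]; infer_instance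
  have hjr : c.toImage.opensRange = O := Opens.ext (by
    rw [Scheme.Hom.coe_opensRange, ← hjO]
    show Set.range (O.ι ∘ jO) = _
    rw [Set.range_comp, jO.surjective.range_eq, Set.image_univ, Scheme.Opens.range_ι])
  have hA₀ := FormalCohLib.isAmple_twistProjSpace n k
  refine ⟨c.image, c.imageι ≫ CohB1.ProjSpace.toSpec n k, c.toImage,
    KFlatLib.pb c.imageι (Twist.twistProjSpace n k 1), AmpleDevLib.isInvertible_pb c.imageι hA₀.1,
    KFlatLib.puSec c.imageι (U := ⊤) (M := Twist.twistProjSpace n k 1) (Twist.globalOf 𝒜 (i := 1) ⟨X₀, hX₀⟩),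
    inferInstance, inferInstance, inferInstance, by rw [← Category.assoc, Scheme.Hom.toImage_imageι, hc],
    AmpleDevLib.isAmple_pb (f := c.imageι) hA₀.1 hA₀, ?_⟩
  rw [AmpleDevLib.genSet_puSec c.imageι hA₀.1, hjr]
  exact congrArg (c.imageι ⁻¹ᵁ ·) (genSet_coord n hA₀.1 0)

end AffBlowLib
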