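import Groth.Agent.AffBlowLib.Closure
import Groth.Agent.LichtLib.Ample
import Groth.Agent.CurveAmpLib.Affine
import Groth.Agent.AVAmpleLib.CartierSection
import Groth.Agent.AmpleFinGenLib.Divisor
import Groth.Agent.CurvLib.Line
import Groth.Agent.HilbPolyLib.Twist
import Groth.Agent.SurfNumLib.IdealMul
import Groth.Agent.ModPairLib.Colon
import Groth.Agent.MiscFlat6.SectionDescent
import Groth.Agent.SDivLib.FlatDiv
import Groth.Agent.S1281
import Groth.Agent.S2313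
import Groth.Agent.S2331

/-!
# Affine opens of proper varieties and ample divisors on blow-ups
-/

set_option autoImplicit false
set_option linter.style.haveILetI false
set_option maxHeartbeats 1000000
universe u

open CategoryTheory CategoryTheory.Limits AlgebraicGeometry TopologicalSpace Opposite
open HilbPolyLib (assocIso swapIso congrLeft congrRight unitLeft)
open TwistLib (genSet)

noncomputable section

namespace AffBlowLib

theorem isBlowUp_iso_comp {X Y X' : Scheme.{u}} {b : X' ⟶ X} {𝓘 : X.IdealSheafData} (hb : BlowUp.IsBlowUp b 𝓘)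
    (e : Y ≅ X') : BlowUp.IsBlowUp (e.hom ≫ b) 𝓘 := by
  refine ⟨?_, fun T g hg => ?_⟩
  · rw [Scheme.IdealSheafData.comap_comp]
    exact BlowUpLib.isEffCartier_comap_of_flat _ hb.1
  · obtain ⟨l, hl, hu⟩ := hb.2 T g hg
    refine ⟨l ≫ e.inv, by simp [hl], fun m hm => ?_⟩
    rw [← hu (m ≫ e.hom) (by simpa using hm), Category.assoc, e.hom_inv_id, Category.comp_id]

/-- Over the open missed by the centre a lift of the inclusion is everything. -/
theorem preimage_eq_range {X X' U : Scheme.{u}} {b : X' ⟶ X} {𝓘 : X.IdealSheafData} (hb : BlowUp.IsBlowUp b 𝓘)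
    (j : U ⟶ X) [IsOpenImmersion j] (hd : Disjoint (𝓘.support : Set X) (Set.range j)) (u : U ⟶ X') (hu : u ≫ b = j) :
    b ⁻¹' Set.range j = Set.range u := by
  have hiso : IsIso (b ∣_ j.opensRange) :=
    EffCartLib.isIso_off_center 𝓘 b hb j.opensRange fun x hx h => Set.disjoint_left.1 hd h hx
  ext z
  constructor
  · rintro ⟨x, hx⟩
    have hux : b (u x) = j x := by rw [← Scheme.Hom.comp_apply, hu]
    let z' : (b ⁻¹ᵁ j.opensRange : Scheme.{u}) := ⟨z, ⟨x, hx⟩⟩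
    let y' : (b ⁻¹ᵁ j.opensRange : Scheme.{u}) := ⟨u x, ⟨x, hux.symm⟩⟩
    have key : ∀ w : (b ⁻¹ᵁ j.opensRange : Scheme.{u}),
        j.opensRange.ι ((b ∣_ j.opensRange) w) = b ((b ⁻¹ᵁ j.opensRange).ι w) := fun w => by
      rw [← Scheme.Hom.comp_apply, morphismRestrict_ι, Scheme.Hom.comp_apply]
    have h : (b ∣_ j.opensRange) z' = (b ∣_ j.opensRange) y' := by
      refine j.opensRange.ι.isOpenEmbedding.injective ?_
      rw [key, key]
      show b z = b (u x)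
      rw [hux, hx]
    have h2 := (b ∣_ j.opensRange).isOpenEmbedding.injective h
    exact ⟨x, (congrArg Subtype.val h2).symm⟩
  · rintro ⟨x, rfl⟩
    exact ⟨x, by rw [← Scheme.Hom.comp_apply, hu]⟩

/-- Powers of an ideal and of its inverse cancel. -/
theorem exists_pow_inverse {X : Scheme.{u}} {H : X.IdealSheafData} (hH : BlowUp.IsEffCartierIdeal H) {A : X.Modules}
    (e : CohB1.tensorMod (ClSub.idealMod H) A ≅ Coh.structureModule X) :
    ∀ n : ℕ, BlowUp.IsEffCartierIdeal (H ^ (n + 1)) ∧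
      Nonempty (CohB1.tensorMod (ClSub.idealMod (H ^ (n + 1))) (CohB1.tensorPow A (n + 1)) ≅ Coh.structureModule X)
  | 0 => by
    rw [zero_add, pow_one]
    exact ⟨hH, ⟨congrRight _ (unitLeft A) ≪≫ e⟩⟩
  | n + 1 => by
    obtain ⟨hn, ⟨en⟩⟩ := exists_pow_inverse hH e n
    rw [pow_succ]
    obtain ⟨μ⟩ := SurfNumLib.nonempty_idealMod_mul hn hH
    refine ⟨SDivLib.isEffCartier_mul hn hH, ⟨congrLeft μ.symm _ ≪≫ assocIso _ _ _ ≪≫
      congrRight _ ((assocIso _ _ _).symm ≪≫ congrLeft (swapIso _ _) A ≪≫ assocIso _ _ _ ≪≫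
        congrRight _ e ≪≫ swapIso _ _ ≪≫ unitLeft _) ≪≫ en⟩⟩

theorem support_pow_le {X : Scheme.{u}} (H : X.IdealSheafData) (n : ℕ) {x : X}
    (hx : x ∈ (H ^ (n + 1)).support) : x ∈ H.support := by
  rwa [Scheme.IdealSheafData.support_pow _ _ n.succ_ne_zero] at hx

/-- **An affine open of a proper variety becomes the complement of an ample divisor on a blow-up.** -/
theorem exists_blowUp_ample {k : Type u} [Field k] {X : Scheme.{u}} (f₀ : X ⟶ Spec (CommRingCat.of k)) [IsProper f₀]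
    [IsIntegral X] (U : X.Opens) (hU : IsAffineOpen U) (hne : (U : Set X).Nonempty) :
    ∃ 𝓙 : X.IdealSheafData, (𝓙.support : Set X) ⊆ (U : Set X)ᶜ ∧
      ∃ (X' : Scheme.{u}) (f : X' ⟶ X), BlowUp.IsBlowUp f 𝓙 ∧ IsProper (f ≫ f₀) ∧
        ∃ (D : X'.IdealSheafData) (L : X'.Modules), BlowUp.IsEffCartierIdeal D ∧
          (D.support : Set X') = (fun x => f x) ⁻¹' ((U : Set X)ᶜ) ∧
          ClSub.IsInverseOf L (ClSub.idealMod D) ∧ CohB1.IsAmple L := by
  haveI : IsAffine (U : Scheme.{u}) := hU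
  haveI : Nonempty U := hne.to_subtype
  haveI : IsIntegral (U : Scheme.{u}) := inferInstance
  haveI : CompactSpace X := QuasiCompact.compactSpace_of_compactSpace f₀
  haveI : CompactSpace (U : Scheme.{u}) := isCompact_iff_compactSpace.mp hU.isCompact
  obtain ⟨P, g, j, A, hA, σ, _, _, _, hjg, hamp, hσ⟩ := exists_hyperplane (U.ι ≫ f₀)
  haveI : CompactSpace P := QuasiCompact.compactSpace_of_compactSpace g
  haveI : QuasiCompact (U.ι ≫ f₀) := inferInstance
  obtain ⟨Z, q, _, _, _, 𝓘₁, 𝓘₂, X₁, X₂, b₁, b₂, o₁, o₂, u₁, u₂, hb₁, hadm₁, hb₂, hadm₂, _, _, ho₁, ho₂, hu₁,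
    hu₂, huo⟩ := Groth.Agent.S1281.result (U.ι ≫ f₀) f₀ g U.ι j rfl hjg
  have hd₁ : Disjoint (𝓘₁.support : Set X) (Set.range U.ι) := hadm₁.2
  have hd₂ : Disjoint (𝓘₂.support : Set P) (Set.range j) := hadm₂.2
  obtain ⟨x₀, hx₀⟩ := hne
  let x₀' : (U : Scheme.{u}) := ⟨x₀, hx₀⟩
  have h1ne : 𝓘₁ ≠ ⊥ := fun h => Set.disjoint_left.1 hd₁
    (by rw [h, Scheme.IdealSheafData.support_bot]; trivial) ⟨x₀', rfl⟩
  have h2ne : 𝓘₂ ≠ ⊥ := fun h => Set.disjoint_left.1 hd₂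
    (by rw [h, Scheme.IdealSheafData.support_bot]; trivial) ⟨x₀', rfl⟩
  obtain ⟨_, -, -⟩ := BlowUpLib.isIntegral_of_isBlowUp hb₁ h1ne
  obtain ⟨_, -, -⟩ := BlowUpLib.isIntegral_of_isBlowUp hb₂ h2ne
  haveI := BlowUpLib.isProper_of_isBlowUp hb₁ hadm₁.1
  haveI := BlowUpLib.isProper_of_isBlowUp hb₂ hadm₂.1
  haveI : IsProper (o₁ ≫ q) := by rw [ho₁]; infer_instance
  haveI : IsProper (o₂ ≫ q) := by rw [ho₂]; infer_instance
  haveI : IsProper o₁ := IsProper.of_comp o₁ q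
  haveI : IsProper o₂ := IsProper.of_comp o₂ q
  have hp₁ := preimage_eq_range hb₁ U.ι hd₁ u₁ hu₁
  have hp₂ := preimage_eq_range hb₂ j hd₂ u₂ hu₂
  have hclos : ∀ {W : Scheme.{u}} [IrreducibleSpace W] (o : W ⟶ Z) [IsProper o] (u : (U : Scheme.{u}) ⟶ W)
      (_ : IsOpen (Set.range u)), Set.range o = closure (Set.range (u ≫ o)) := by
    intro W _ o _ u hu
    have hd : Dense (Set.range u) := hu.dense ⟨_, x₀', rfl⟩
    have e : Set.range (u ≫ o) = o '' Set.range u := by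
      rw [← Set.range_comp]; rfl
    rw [e]
    refine Set.Subset.antisymm ?_ (closure_minimal (Set.image_subset_range _ _) o.isClosedMap.isClosed_range)
    refine Set.Subset.trans ?_ (image_closure_subset_closure_image o.continuous)
    rw [hd.closure_eq, Set.image_univ]
  have hrange : Set.range o₁ = Set.range o₂ := by
    rw [hclos o₁ u₁ (hp₁ ▸ U.ι.isOpenEmbedding.isOpen_range.preimage b₁.continuous),
      hclos o₂ u₂ (hp₂ ▸ j.isOpenEmbedding.isOpen_range.preimage b₂.continuous), huo]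
  let θ : X₁ ≅ X₂ := IsOpenImmersion.isoOfRangeEq o₁ o₂ hrange
  have hθ : θ.hom ≫ o₂ = o₁ := IsOpenImmersion.isoOfRangeEq_hom_fac o₁ o₂ hrange
  have hθu : u₁ ≫ θ.hom = u₂ := by rw [← cancel_mono o₂, Category.assoc, hθ, huo]
  have hproper : IsProper ((θ.inv ≫ b₁) ≫ f₀) := by
    rw [Category.assoc, ← ho₁, ← hθ, Category.assoc, Iso.inv_hom_id_assoc]
    infer_instance
  refine ⟨𝓘₁, fun x hx hxU => Set.disjoint_left.1 hd₁ hx ⟨⟨x, hxU⟩, rfl⟩, X₂, θ.inv ≫ b₁,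
    isBlowUp_iso_comp hb₁ θ.symm, hproper, ?_⟩
  -- the ample divisor
  haveI : IsLocallyNoetherian X₂ := LocallyOfFiniteType.isLocallyNoetherian (b₂ ≫ g)
  haveI : CompactSpace X₂ := QuasiCompact.compactSpace_of_compactSpace (b₂ ≫ g)
  haveI : IsNoetherian X₂ := {}
  let K := 𝓘₂.comap b₂
  let E := ClSub.idealMod K
  let A' := KFlatLib.pb b₂ A
  have hA' : PicF.IsInvertible A' := AmpleDevLib.isInvertible_pb b₂ hA
  let σ' : Γ(A', ⊤) := KFlatLib.puSec b₂ (U := ⊤) (M := A) σ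
  have hgen : (genSet hA' σ' : Set X₂) = Set.range u₂ := by
    rw [← hp₂, AmpleDevLib.genSet_puSec b₂ hA, hσ]
    rfl
  let s₀ : Coh.structureModule X₂ ⟶ A' := QCohLib.unitHom A' σ'
  have hs₀ : s₀ ≠ 0 := fun h => by
    have h1 : σ' = 0 := by
      have h2 := congrArg (fun φ : Coh.structureModule X₂ ⟶ A' => φ.app ⊤ (1 : Γ(X₂, ⊤))) h
      change s₀.app ⊤ (1 : Γ(X₂, ⊤)) = 0 at h2
      rw [QCohLib.unitHom_app, one_smul] at h2
      exact (AmpleLib.res_refl A' σ').symm.trans h2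
    have h3 : u₂ x₀' ∈ (genSet hA' σ' : Set X₂) := hgen.symm ▸ ⟨x₀', rfl⟩
    rw [h1, MiscFlat6.genSet_eq_bot_of_zero] at h3
    exact h3
  haveI : Mono s₀ := CurvLib.mono_of_ne_zero CurvLib.isInvertible_structureModule hA' hs₀
  let H := PicF2.zeroScheme A' s₀
  have hH : BlowUp.IsEffCartierIdeal H := AmpleFinGenLib.isEffCartier_zeroScheme hA' s₀
  obtain ⟨eH⟩ := AmpleFinGenLib.idealMod_tensor_iso hA' s₀
  have hsupp : ∀ x : X₂, x ∈ H.support ↔ x ∉ Set.range u₂ := fun x => by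
    rw [← not_iff_not, not_not, AmpleFinGenLib.notMem_support_zeroScheme hA' s₀ x,
      AmpleThLib.genLocus_unitHom hA', ← SetLike.mem_coe, hgen]
  have hKH : K.support ≤ H.support := fun x hx => (hsupp x).2 fun hxu => by
    rw [← hp₂] at hxu
    have hx' : x ∈ (K.support : Set X₂) := hx
    rw [Scheme.IdealSheafData.support_comap] at hx'
    exact Set.disjoint_left.1 hd₂ hx' hxu
  obtain ⟨n₁, hn₁⟩ := Groth.Agent.S2313.exists_pow_le X₂ K H hKH
  have hrel : RelAmple.IsRelAmple b₂ E := ⟨inferInstance, fun V => LichtLib.isAmple_exceptional hb₂ hadm₂.1 V⟩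
  obtain ⟨n₀, -, hn₀⟩ := Groth.Agent.S2331.result b₂ g E A hrel ((MiscFlat6.isRelAmple_iff_isAmple g A).2 hamp)
  let m := n₀ + n₁
  obtain ⟨hHm, -⟩ := exists_pow_inverse hH eH m
  have hle : H ^ (m + 1) ≤ K := by
    refine le_trans ?_ hn₁
    intro V
    rw [Scheme.IdealSheafData.ideal_pow, Scheme.IdealSheafData.ideal_pow]
    exact Ideal.pow_le_pow_right (Nat.le_succ_of_le (Nat.le_add_left n₁ n₀))
  obtain ⟨D', hD'⟩ := ModPairLib.exists_mul_eq hb₂.1 hle
  have hD'c : BlowUp.IsEffCartierIdeal D' := BlowUpLib.isEffCartier_of_mul (I := K) (by rw [mul_comm, hD']; exact hHm)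
  let D := H * D'
  have hDc : BlowUp.IsEffCartierIdeal D := SDivLib.isEffCartier_mul hH hD'c
  have hDK : D * K = H ^ (m + 2) := by
    show H * D' * K = _
    rw [mul_assoc, hD', pow_succ' H (m + 1)]
  obtain ⟨-, ⟨eN⟩⟩ := exists_pow_inverse hH eH (m + 1)
  obtain ⟨μ⟩ := SurfNumLib.nonempty_idealMod_mul hDc hb₂.1
  obtain ⟨φ, -⟩ := AmpleDevLib.exists_pullPowIso (f := b₂) hA (m + 2)
  let B := (Scheme.Modules.pullback b₂).obj (CohB1.tensorPow A (m + 2))
  refine ⟨D, CohB1.tensorMod E B, hDc, ?_, ⟨?_⟩, ?_⟩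
  · ext x
    have hx : x ∈ (fun x => (θ.inv ≫ b₁) x) ⁻¹' ((U : Set X)ᶜ) ↔ x ∉ Set.range u₂ := by
      show ¬ b₁ (θ.inv x) ∈ U ↔ _
      refine not_congr ⟨fun h => ?_, ?_⟩
      · have h2 : θ.inv x ∈ b₁ ⁻¹' Set.range U.ι := by
          rw [Scheme.Opens.range_ι]; exact h
        rw [hp₁] at h2
        obtain ⟨y, hy⟩ := h2
        refine ⟨y, ?_⟩
        rw [← hθu, Scheme.Hom.comp_apply, hy, ← Scheme.Hom.comp_apply, Iso.inv_hom_id]
        rfl
      · rintro ⟨y, rfl⟩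
        rw [← hθu, Scheme.Hom.comp_apply, ← Scheme.Hom.comp_apply θ.hom, Iso.hom_inv_id]
        show b₁ (u₁ y) ∈ U
        rw [← Scheme.Hom.comp_apply, hu₁]
        exact y.2
    rw [hx, ← hsupp]
    show x ∈ (H * D').support ↔ x ∈ H.support
    rw [Scheme.IdealSheafData.support_mul]
    refine ⟨?_, fun h => Or.inl h⟩
    rintro (h | h)
    · exact h
    · refine support_pow_le H m ?_
      rw [← hD', Scheme.IdealSheafData.support_mul]
      exact Or.inl h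
  · exact congrLeft (swapIso E B) _ ≪≫ assocIso _ _ _ ≪≫ congrRight B (swapIso _ _ ≪≫ μ ≪≫
      eqToIso (congrArg ClSub.idealMod hDK)) ≪≫ swapIso _ _ ≪≫ congrRight _ φ ≪≫ eN
  · exact (MiscFlat6.isRelAmple_iff_isAmple (b₂ ≫ g) _).1 (hn₀ (m + 2) (Nat.le_add_right_of_le (Nat.le_add_right n₀ n₁)))

/-- The converse. -/
theorem isAffineOpen_of_blowUp {k : Type u} [Field k] {X : Scheme.{u}} (f₀ : X ⟶ Spec (CommRingCat.of k))
    (U : X.Opens) (𝓙 : X.IdealSheafData) (h𝓙 : (𝓙.support : Set X) ⊆ (U : Set X)ᶜ) {X' : Scheme.{u}} (f : X' ⟶ X)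
    (hf : BlowUp.IsBlowUp f 𝓙) (hp : IsProper (f ≫ f₀)) (D : X'.IdealSheafData) (L : X'.Modules)
    (hsupp : (D.support : Set X') = (fun x => f x) ⁻¹' ((U : Set X)ᶜ)) (hinv : ClSub.IsInverseOf L (ClSub.idealMod D))
    (hamp : CohB1.IsAmple L) : IsAffineOpen U := by
  haveI := hp
  obtain ⟨σ, hσ⟩ := AVAmpleLib.exists_section hamp.1 hinv
  have hgen : genSet hamp.1 σ = f ⁻¹ᵁ U := Opens.ext (by rw [hσ, hsupp]; exact compl_compl _)
  have haff := CurveAmpLib.isAffineOpen_genSet (f ≫ f₀) hamp.1 hamp σ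
  rw [hgen] at haff
  haveI : IsIso (f ∣_ U) := EffCartLib.isIso_off_center 𝓙 f hf U fun x hx h => h𝓙 h hx
  haveI : IsAffine (f ⁻¹ᵁ U : Scheme.{u}) := haff
  exact IsAffine.of_isIso (inv (f ∣_ U))

end AffBlowLib
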